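import Groth.Agent.SHInter.Normal
import Groth.Agent.SHInter.Frac
import Groth.Prelude.Def_Pi1
import Mathlib.RingTheory.Smooth.IntegralClosure
import Mathlib.RingTheory.Etale.Descent
import Mathlib.RingTheory.Finiteness.Descent
import Mathlib.RingTheory.Etale.Pi

/-!
# Covers of the generic point of a normal local ring split by the strict henselization
-/

set_option autoImplicit false
set_option backward.isDefEq.respectTransparency false
set_option linter.style.haveILetI false
set_option linter.unusedSectionVars false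

universe u

open CategoryTheory CategoryTheory.Limits AlgebraicGeometry TensorProduct IsLocalRing
open scoped nonZeroDivisors

noncomputable section

namespace Groth.Agent.StrictSplitLib

variable {A : Type u} [CommRing A] [IsDomain A] [IsLocalRing A] [IsIntegrallyClosed A]
  {R : Type u} [CommRing R] [IsLocalRing R] [Algebra A R] [IsLocalHom (algebraMap A R)]
  [Hensel.IsStrictHenselization A R]
  {K L : Type u} [Field K] [Field L] [Algebra A K] [IsFractionRing A K] [Algebra R L] [IsFractionRing R L]
  [Algebra K L] [Algebra A L] [IsScalarTower A K L] [IsScalarTower A R L]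
  {E : Type u} [CommRing E] [Algebra K E] [Algebra A E] [IsScalarTower A K E]

/-- Base change of the integral closure to the fraction field recovers the algebra. -/
theorem bijective_lift_integralClosure [Algebra.IsAlgebraic K E] :
    Function.Bijective (Algebra.TensorProduct.lift (Algebra.ofId K E) (integralClosure A E).val
      fun _ _ => Commute.all _ _ : K ⊗[A] integralClosure A E →ₐ[K] E) := by
  set g : K ⊗[A] integralClosure A E →ₐ[K] E := Algebra.TensorProduct.lift (Algebra.ofId K E) (integralClosure A E).val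
      fun _ _ => Commute.all _ _
  have hg : ∀ (k : K) (y : integralClosure A E), g (k ⊗ₜ y) = k • (y : E) := fun k y => by
    rw [Algebra.smul_def]; exact Algebra.TensorProduct.lift_tmul ..
  refine ⟨(injective_iff_map_eq_zero g).2 fun z hz => ?_, fun x => ?_⟩
  · obtain ⟨⟨y, a⟩, hya⟩ := IsLocalizedModule.surj (nonZeroDivisors A)
      (TensorProduct.mk A K (integralClosure A E) 1) z
    have h1 := congrArg g hya
    rw [Submonoid.smul_def, AlgHom.map_smul_of_tower, hz, smul_zero] at h1
    have hy : y = 0 := Subtype.ext (by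
      have h2 : g ((1 : K) ⊗ₜ y) = 0 := h1.symm
      rw [hg, one_smul] at h2
      exact h2)
    have ha : IsUnit (algebraMap A K a.1) := IsLocalization.map_units K a
    rw [hy, map_zero, Submonoid.smul_def, ← algebraMap_smul K, ha.smul_eq_zero] at hya
    exact hya
  · obtain ⟨a, ha, hax⟩ : ∃ a : A, a ≠ 0 ∧ IsIntegral A (a • x) := by
      obtain ⟨⟨m, hm⟩, h⟩ := IsIntegral.exists_multiple_integral_of_isLocalization (nonZeroDivisors A) x
        (Algebra.IsAlgebraic.isAlgebraic (R := K) x).isIntegral
      exact ⟨m, nonZeroDivisors.ne_zero hm, h⟩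
    refine ⟨(algebraMap A K a)⁻¹ ⊗ₜ ⟨a • x, hax⟩, ?_⟩
    rw [hg]
    show (algebraMap A K a)⁻¹ • a • x = x
    rw [← algebraMap_smul K a x, inv_smul_smul₀ ((map_ne_zero_iff _ (IsFractionRing.injective A K)).2 ha)]

include R in
set_option maxHeartbeats 1000000 in
/-- A finite algebra over the fraction field which the fraction field of the strict henselization splits has
finite étale integral closure. -/
theorem finite_etale_integralClosure [Module.Finite K E] {ι : Type u} [Finite ι]
    (Φ : L ⊗[K] E ≃ₐ[L] (ι → L)) :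
    Module.Finite A (integralClosure A E) ∧ Algebra.Etale A (integralClosure A E) := by
  classical
  haveI := Fintype.ofFinite ι
  haveI : IsDomain R := (SHInter.isDomain_sh (A := A) (S := R)).1
  haveI : IsIntegrallyClosed R := (SHInter.isDomain_sh (A := A) (S := R)).2
  have hRL := IsFractionRing.injective R L
  let b := Module.finBasis K E
  let bL := b.baseChange L
  let l : ι → Fin (Module.finrank K E) → L := fun j i => bL.repr (Φ.symm (Pi.single j 1)) i
  have hrep : ∀ j i, ∃ rs : R × R, rs.2 ≠ 0 ∧ l j i * algebraMap R L rs.2 = algebraMap R L rs.1 := fun j i => by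
    obtain ⟨⟨r, s⟩, h⟩ := IsLocalization.surj (nonZeroDivisors R) (l j i)
    exact ⟨(r, s), nonZeroDivisors.ne_zero s.2, h⟩
  choose rs hrs0 hrs using hrep
  obtain ⟨D, hD, hDloc, hDhom, hDe⟩ := SHInter.exists_stage A R
    (Finset.univ.image (fun ji : ι × Fin (Module.finrank K E) => (rs ji.1 ji.2).1) ∪
      Finset.univ.image (fun ji : ι × Fin (Module.finrank K E) => (rs ji.1 ji.2).2))
  haveI := hDloc
  haveI := hDhom
  haveI : IsDomain D := inferInstance
  haveI : Module.FaithfullyFlat D R := SHInter.faithfullyFlat_of_essEt hDe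
  haveI : Module.Flat A D := SHInter.flat_of_essEt hDe
  haveI : IsLocalHom (algebraMap A D) := SHInter.isLocalHom_algebraMap_of_essEt hDe
  haveI : Module.FaithfullyFlat A D := Module.FaithfullyFlat.of_flat_of_isLocalHom
  have hr1 : ∀ j i, (rs j i).1 ∈ D := fun j i =>
    hD (Finset.mem_union_left _ (Finset.mem_image_of_mem _ (Finset.mem_univ (j, i))))
  have hr2 : ∀ j i, (rs j i).2 ∈ D := fun j i =>
    hD (Finset.mem_union_right _ (Finset.mem_image_of_mem _ (Finset.mem_univ (j, i))))
  haveI : IsScalarTower A D L :=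
    IsScalarTower.of_algebraMap_eq (R := A) (S := D) (A := L) fun a => IsScalarTower.algebraMap_apply A R L a
  haveI : IsScalarTower D L (L ⊗[K] E) :=
    IsScalarTower.of_algebraMap_eq (R := D) (S := L) (A := L ⊗[K] E) fun _ => rfl
  have hDL : ∀ d : D, algebraMap D L d = algebraMap R L d := fun _ => rfl
  have hmin : (minimalPrimes A).Finite := by
    rw [IsDomain.minimalPrimes_eq_singleton_bot]
    exact Set.finite_singleton _
  have hDdiv : ∀ d : D, d ≠ 0 → ∃ a : A, a ≠ 0 ∧ ∃ y : D, d * y = algebraMap A D a := fun d hd => by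
    obtain ⟨a, ha, y, hy⟩ := SHInter.exists_mul_eq_algebraMap hmin D (mem_nonZeroDivisors_of_ne_zero hd)
    exact ⟨a, nonZeroDivisors.ne_zero ha, y, hy⟩
  let θ : D ⊗[A] E →ₐ[D] L ⊗[K] E :=
    Algebra.TensorProduct.lift (Algebra.ofId D (L ⊗[K] E))
      ((Algebra.TensorProduct.includeRight : E →ₐ[K] L ⊗[K] E).restrictScalars A) fun _ _ => Commute.all _ _
  have hθ : ∀ (d : D) (x : E), θ (d ⊗ₜ x) = algebraMap D L d ⊗ₜ x := fun d x => by
    show algebraMap D (L ⊗[K] E) d * ((1 : L) ⊗ₜ[K] x) = _
    rw [IsScalarTower.algebraMap_apply D L (L ⊗[K] E), Algebra.TensorProduct.algebraMap_apply,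
      Algebra.TensorProduct.tmul_mul_tmul]
    simp
  have hθb : ∀ (d : D) i, θ (d ⊗ₜ b i) = algebraMap D L d • bL i := fun d i => by
    rw [hθ, Module.Basis.baseChange_apply, TensorProduct.smul_tmul', smul_eq_mul, mul_one]
  have hunit : ∀ (a : A), a ≠ 0 → ∀ z : D ⊗[A] E, a • z = 0 → z = 0 := fun a ha z hz => by
    have hu : IsUnit (algebraMap A (D ⊗[A] E) a) := by
      have h1 : IsUnit (algebraMap A E a) := by
        rw [IsScalarTower.algebraMap_apply A K E]
        exact (IsUnit.mk0 _ ((map_ne_zero_iff _ (IsFractionRing.injective A K)).2 ha)).map _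
      rw [← (Algebra.TensorProduct.includeRight : E →ₐ[A] D ⊗[A] E).commutes a]
      exact h1.map _
    exact (hu.mul_right_eq_zero).1 (by rw [← Algebra.smul_def]; exact hz)
  have hcoeff : ∀ z : D ⊗[A] E, ∃ a : A, a ≠ 0 ∧ ∃ c : Fin (Module.finrank K E) → D,
      a • z = ∑ i, c i ⊗ₜ[A] b i := by
    intro z
    induction z using TensorProduct.induction_on with
    | zero => exact ⟨1, one_ne_zero, 0, by simp⟩
    | tmul d x =>
      obtain ⟨⟨a, ha⟩, h⟩ := IsLocalization.exist_integer_multiples_of_finite (nonZeroDivisors A) (fun i => b.repr x i)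
      choose n hn using h
      refine ⟨a, nonZeroDivisors.ne_zero ha, fun i => n i • d, ?_⟩
      have hx : a • x = ∑ i, n i • b i := by
        conv_lhs => rw [← b.sum_repr x]
        rw [Finset.smul_sum]
        refine Finset.sum_congr rfl fun i _ => ?_
        rw [← algebraMap_smul K (n i) (b i), hn i, ← smul_assoc]
      rw [← TensorProduct.tmul_smul, hx, TensorProduct.tmul_sum]
      exact Finset.sum_congr rfl fun i _ => by rw [TensorProduct.tmul_smul, TensorProduct.smul_tmul']
    | add y z hy hz =>
      obtain ⟨a, ha, c, hc⟩ := hy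
      obtain ⟨a', ha', c', hc'⟩ := hz
      refine ⟨a * a', mul_ne_zero ha ha', fun i => a' • c i + a • c' i, ?_⟩
      simp only [TensorProduct.add_tmul, Finset.sum_add_distrib, ← TensorProduct.smul_tmul', ← Finset.smul_sum, ← hc, ← hc']
      rw [smul_add, mul_comm a a', mul_smul, mul_comm a' a, mul_smul]
  have hθcoeff : ∀ (a : A) (c : Fin (Module.finrank K E) → D) (z : D ⊗[A] E), a • z = ∑ i, c i ⊗ₜ[A] b i →
      ∀ i, algebraMap A L a * bL.repr (θ z) i = algebraMap D L (c i) := by
    intro a c z h i
    have h1 := congrArg θ h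
    rw [map_sum, AlgHom.map_smul_of_tower] at h1
    simp only [hθb] at h1
    rw [← IsScalarTower.algebraMap_smul L a (θ z)] at h1
    have h2 := congrArg (fun w => bL.repr w i) h1
    simp only [map_smul, map_sum, Finsupp.smul_apply, smul_eq_mul, Module.Basis.repr_self,
      Finsupp.smul_single, mul_one, Finsupp.coe_finsetSum, Finset.sum_apply, Finsupp.single_apply,
      Finset.sum_ite_eq', Finset.mem_univ, if_true] at h2
    exact h2
  have hθinj : Function.Injective θ := (injective_iff_map_eq_zero θ).2 fun z hz => by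
    obtain ⟨a, ha, c, hc⟩ := hcoeff z
    have hc0 : ∀ i, c i = 0 := fun i => by
      have := hθcoeff a c z hc i
      rw [hz, map_zero, Finsupp.zero_apply, mul_zero] at this
      exact Subtype.ext (hRL (this.symm.trans (map_zero _).symm))
    refine hunit a ha z (hc.trans (Finset.sum_eq_zero fun i _ => ?_))
    rw [hc0, TensorProduct.zero_tmul]
  -- the idempotents live over the stage
  have hε : ∀ j, ∃ ε : D ⊗[A] E, θ ε = Φ.symm (Pi.single j 1) := by
    intro j
    have hone : ∀ i, ∃ z : D ⊗[A] E, θ z = l j i • bL i := by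
      intro i
      obtain ⟨a, ha, y, hy⟩ := hDdiv ⟨_, hr2 j i⟩ fun h => hrs0 j i (congrArg Subtype.val h)
      have haK : algebraMap A K a ≠ 0 := (map_ne_zero_iff _ (IsFractionRing.injective A K)).2 ha
      refine ⟨((⟨_, hr1 j i⟩ : D) * y) ⊗ₜ[A] ((algebraMap A K a)⁻¹ • b i), ?_⟩
      rw [hθ, TensorProduct.tmul_smul, Module.Basis.baseChange_apply, TensorProduct.smul_tmul',
        TensorProduct.smul_tmul', Algebra.smul_def, map_inv₀, smul_eq_mul, mul_one]
      congr 1
      have h1 : algebraMap A L a ≠ 0 := by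
        rw [IsScalarTower.algebraMap_apply A K L]
        exact (map_ne_zero_iff _ (algebraMap K L).injective).2 haK
      have h2 : algebraMap R L (rs j i).2 * algebraMap D L y = algebraMap A L a := by
        rw [IsScalarTower.algebraMap_apply A D L, ← hy, map_mul]
        rfl
      rw [map_mul, ← IsScalarTower.algebraMap_apply A K L, inv_mul_eq_div, div_eq_iff h1, ← h2, hDL ⟨_, hr1 j i⟩,
        ← mul_assoc, hrs j i]
    choose z hz using hone
    exact ⟨∑ i, z i, by rw [map_sum, Finset.sum_congr rfl fun i _ => hz i]; exact bL.sum_repr _⟩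
  choose ε hε using hε
  have hεid : ∀ j, IsIntegral D (ε j) := fun j =>
    ⟨Polynomial.X ^ 2 - Polynomial.X, Polynomial.monic_X_pow_sub (by simp), by
      rw [← Polynomial.aeval_def, map_sub, map_pow, Polynomial.aeval_X, sub_eq_zero]
      apply hθinj
      rw [map_pow, hε, ← map_pow, pow_two, ← Pi.single_mul, one_mul]⟩
  let w : D ⊗[A] E →ₐ[D] (ι → L) := (Φ.toAlgHom.restrictScalars D).comp θ
  have hw : Function.Injective w := Φ.injective.comp hθinj
  have hwε : ∀ j, w (ε j) = Pi.single j 1 := fun j => by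
    show Φ (θ (ε j)) = _
    rw [hε, AlgEquiv.apply_symm_apply]
  have hmem : ∀ z, IsIntegral D z → ∀ j, ∃ d : D, algebraMap D L d = w z j := by
    intro z hz j
    have h1 : IsIntegral D (w z j) := (hz.map w).map (Pi.evalAlgHom D (fun _ : ι => L) j)
    haveI : IsScalarTower D R L := IsScalarTower.of_algebraMap_eq (R := D) (S := R) (A := L) fun _ => rfl
    obtain ⟨x, hx⟩ := IsIntegrallyClosed.isIntegral_iff.1 (h1.tower_top (A := R))
    have hne : bL.repr (Φ.symm (Pi.single j 1)) ≠ 0 := by
      rw [ne_eq, LinearEquiv.map_eq_zero_iff]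
      intro h0
      have h2 := congrArg Φ h0
      rw [AlgEquiv.apply_symm_apply, map_zero] at h2
      exact one_ne_zero (α := L) (by simpa using congrFun h2 j)
    obtain ⟨i, hi⟩ := Finsupp.ne_iff.1 hne
    obtain ⟨a, ha, c, hc⟩ := hcoeff (z * ε j)
    obtain ⟨a', ha', c', hc'⟩ := hcoeff (ε j)
    have hz' : θ (z * ε j) = w z j • θ (ε j) := by
      apply Φ.injective
      rw [map_smul, ← show w (z * ε j) = Φ (θ (z * ε j)) from rfl, ← show w (ε j) = Φ (θ (ε j)) from rfl, map_mul, hwε]
      funext k
      rcases eq_or_ne k j with rfl | hk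
      · simp
      · simp [hk]
    have e1 := hθcoeff a c _ hc i
    have e2 := hθcoeff a' c' _ hc' i
    rw [hz', map_smul, Finsupp.smul_apply, smul_eq_mul] at e1
    have hc'0 : c' i ≠ 0 := fun h => hi (by
      rw [h, map_zero, hε] at e2
      refine (mul_eq_zero.1 e2).resolve_left ?_
      rw [IsScalarTower.algebraMap_apply A K L]
      exact (map_ne_zero_iff _ (algebraMap K L).injective).2 ((map_ne_zero_iff _ (IsFractionRing.injective A K)).2 ha'))
    have hnum : ((algebraMap A D a * c' i : D) : R) * x = ((algebraMap A D a' * c i : D) : R) := by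
      apply hRL
      rw [map_mul, hx, ← hDL, ← hDL, map_mul, map_mul, ← IsScalarTower.algebraMap_apply,
        ← IsScalarTower.algebraMap_apply, ← e1, ← e2]
      ring
    have hd0 : (algebraMap A D a * c' i : D) ≠ 0 := mul_ne_zero
      ((map_ne_zero_iff _ (FaithfulSMul.algebraMap_injective A D)).2 ha) hc'0
    refine ⟨⟨x, SHInter.mem_of_mul_mem D (algebraMap A D a * c' i).2 (fun y hy =>
      (mul_eq_zero.1 hy).resolve_left fun h => hd0 (Subtype.ext h)) (hnum ▸ (algebraMap A D a' * c i).2)⟩, hx⟩
  choose d hd using hmem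
  let Ψ₀ : integralClosure D (D ⊗[A] E) → (ι → D) := fun z j => d z.1 z.2 j
  have hDinj : Function.Injective (algebraMap D L) := fun p q h => Subtype.ext (hRL h)
  let Ψ : integralClosure D (D ⊗[A] E) →ₐ[D] (ι → D) :=
    { toFun := Ψ₀
      map_one' := funext fun j => hDinj (by
        rw [hd]; simp)
      map_mul' := fun p q => funext fun j => hDinj (by
        rw [hd, Pi.mul_apply, map_mul, hd, hd]; simp)
      map_zero' := funext fun j => hDinj (by
        rw [hd]; simp)
      map_add' := fun p q => funext fun j => hDinj (by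
        rw [hd, Pi.add_apply, map_add, hd, hd]; simp)
      commutes' := fun r => funext fun j => hDinj (by
        rw [hd]
        exact congrFun (w.commutes r) j) }
  have hΨ : Function.Bijective Ψ := by
    refine ⟨fun p q h => Subtype.ext (hw (funext fun j => ?_)), fun v => ?_⟩
    · rw [← hd p.1 p.2 j, ← hd q.1 q.2 j]
      exact congrArg (algebraMap D L) (congrFun h j)
    · have hi : IsIntegral D (∑ j, v j • ε j) := IsIntegral.sum _ fun j _ => (hεid j).smul (v j)
      refine ⟨⟨_, hi⟩, funext fun j => hDinj ?_⟩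
      show algebraMap D L (d _ hi j) = _
      rw [hd, map_sum, Finset.sum_apply, Finset.sum_eq_single j]
      · rw [map_smul, hwε, Pi.smul_apply, Pi.single_eq_same, ← Algebra.algebraMap_eq_smul_one]
      · intro k _ hk
        rw [map_smul, hwε, Pi.smul_apply, Pi.single_eq_of_ne (Ne.symm hk), smul_zero]
      · exact fun h => absurd (Finset.mem_univ j) h
  obtain ⟨C, _, _, q, _, _, -, ⟨eD⟩⟩ := hDe
  letI : Algebra C D := (eD.symm.toRingHom.comp (algebraMap C (Localization.AtPrime q))).toAlgebra
  haveI : IsScalarTower A C D := IsScalarTower.of_algebraMap_eq fun a => by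
    show _ = eD.symm (algebraMap C (Localization.AtPrime q) (algebraMap A C a))
    rw [← IsScalarTower.algebraMap_apply, AlgEquiv.commutes]
  haveI : IsLocalization q.primeCompl D := IsLocalization.isLocalization_of_algEquiv q.primeCompl
    { eD.symm.toRingEquiv with commutes' := fun _ => rfl }
  haveI : Algebra.Smooth A C := inferInstance
  have hbc : Function.Bijective (TensorProduct.toIntegralClosure A D E) :=
    TensorProduct.toIntegralClosure_bijective_of_tower (S := C)
      TensorProduct.toIntegralClosure_bijective_of_smooth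
      (TensorProduct.toIntegralClosure_bijective_of_isLocalization q.primeCompl)
  let e : D ⊗[A] integralClosure A E ≃ₐ[D] (ι → D) :=
    (AlgEquiv.ofBijective _ hbc).trans (AlgEquiv.ofBijective Ψ hΨ)
  haveI : Module.Finite D (D ⊗[A] integralClosure A E) := Module.Finite.equiv e.symm.toLinearEquiv
  haveI : Algebra.Etale D (ι → D) := inferInstance
  haveI : Algebra.Etale D (D ⊗[A] integralClosure A E) := Algebra.Etale.of_equiv e.symm
  exact ⟨Module.Finite.of_finite_tensorProduct_of_faithfullyFlat D,
    Algebra.Etale.of_etale_tensorProduct_of_faithfullyFlat (T := D)⟩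

/-- Split covers give split algebras. -/
theorem exists_algEquiv_of_isSplit {C : Type u} [CommRing C] [Algebra L C] (Y : FEt.Cat (Spec (CommRingCat.of L)))
    (e : Y.left ≅ Spec (CommRingCat.of C))
    (he : e.hom ≫ Spec.map (CommRingCat.ofHom (algebraMap L C)) = Y.hom) (h : Pi1.IsSplit Y) :
    ∃ (ι : Type u) (_ : Finite ι), Nonempty (C ≃ₐ[L] (ι → L)) := by
  obtain ⟨ι, hι, e', he'⟩ := h
  haveI := hι
  refine ⟨ι, hι, ?_⟩
  let s := sigmaSpec fun _ : ι => CommRingCat.of L
  let g : Spec (CommRingCat.of C) ≅ Spec (CommRingCat.of (ι → L)) := e.symm ≪≫ e' ≪≫ asIso s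
  have hg : g.inv ≫ Spec.map (CommRingCat.ofHom (algebraMap L C)) =
      Spec.map (CommRingCat.ofHom (algebraMap L (ι → L))) := by
    rw [← cancel_epi s]
    refine Sigma.hom_ext _ _ fun i => ?_
    simp only [g, Iso.trans_inv, Iso.symm_inv, asIso_inv, Category.assoc, IsIso.hom_inv_id_assoc]
    rw [show e.hom ≫ Spec.map (CommRingCat.ofHom (algebraMap L C)) = Y.hom from he]
    refine (he' i).trans ?_
    rw [← Category.assoc, ι_sigmaSpec, ← Spec.map_comp, ← CommRingCat.ofHom_comp]
    exact (Spec.map_id _).symm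
  let ψ : CommRingCat.of C ⟶ CommRingCat.of (ι → L) := Spec.preimage g.inv
  let ψ' : CommRingCat.of (ι → L) ⟶ CommRingCat.of C := Spec.preimage g.hom
  have h1 : ψ ≫ ψ' = 𝟙 _ := Spec.map_injective (by
    rw [Spec.map_comp, Spec.map_preimage, Spec.map_preimage, Iso.hom_inv_id, Spec.map_id])
  have h2 : ψ' ≫ ψ = 𝟙 _ := Spec.map_injective (by
    rw [Spec.map_comp, Spec.map_preimage, Spec.map_preimage, Iso.inv_hom_id, Spec.map_id])
  have h3 : CommRingCat.ofHom (algebraMap L C) ≫ ψ = CommRingCat.ofHom (algebraMap L (ι → L)) :=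
    Spec.map_injective (by rw [Spec.map_comp, Spec.map_preimage, hg])
  let i : CommRingCat.of C ≅ CommRingCat.of (ι → L) := ⟨ψ, ψ', h1, h2⟩
  exact ⟨AlgEquiv.ofRingEquiv (f := i.commRingCatIsoToRingEquiv) fun r => congr($h3 r)⟩

include R in
theorem exists_finiteEtale_extension (V : FEt.Cat (Spec (CommRingCat.of K)))
    (hV : Pi1.IsSplit ((FEt.restrict (Spec.map (CommRingCat.ofHom (algebraMap K L)))).obj V))
    :
    ∃ Y : FEt.Cat (Spec (CommRingCat.of A)),
      Nonempty ((FEt.restrict (Spec.map (CommRingCat.ofHom (algebraMap A K)))).obj Y ≅ V) := by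
  let v : V.left ⟶ Spec (CommRingCat.of K) := V.hom
  haveI : IsFinite v := V.prop.1
  haveI : IsAffine V.left := isAffine_of_isAffineHom v
  let φ := Spec.preimage (V.left.isoSpec.inv ≫ v)
  have hφ : Spec.map φ = V.left.isoSpec.inv ≫ v := Spec.map_preimage _
  let E : Type u := Γ(V.left, ⊤)
  letI : Algebra K E := φ.hom.toAlgebra
  haveI : Module.Finite K E :=
    RingHom.finite_algebraMap.1 ((IsFinite.SpecMap_iff φ).1 (hφ ▸ inferInstance))
  letI : Algebra A E := ((algebraMap K E).comp (algebraMap A K)).toAlgebra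
  haveI : IsScalarTower A K E := IsScalarTower.of_algebraMap_eq' rfl
  let j := Spec.map (CommRingCat.ofHom (algebraMap K L))
  let P : ((FEt.restrict j).obj V).left ≅ Spec (CommRingCat.of (L ⊗[K] E)) :=
    asIso (pullback.map v j (Spec.map φ) j V.left.isoSpec.hom (𝟙 _) (𝟙 _) (by simp [hφ]) (by simp)) ≪≫
      pullbackSymmetry _ j ≪≫ pullbackSpecIso K L E
  have hP : P.hom ≫ Spec.map (CommRingCat.ofHom (algebraMap L (L ⊗[K] E))) =
      ((FEt.restrict j).obj V).hom := by
    simp only [P, Iso.trans_hom, asIso_hom, Category.assoc]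
    refine (congrArg (fun z => _ ≫ (pullbackSymmetry _ j).hom ≫ z) (pullbackSpecIso_hom_fst K L E)).trans ?_
    refine (congrArg (fun z => _ ≫ z) (pullbackSymmetry_hom_comp_fst _ _)).trans ?_
    refine (pullback.lift_snd _ _ _).trans ?_
    exact Category.comp_id _
  obtain ⟨ι, hι, ⟨Φ⟩⟩ := exists_algEquiv_of_isSplit _ P hP hV
  haveI := hι
  haveI : Algebra.IsAlgebraic K E := Algebra.IsAlgebraic.of_finite K E
  obtain ⟨hfin, het⟩ := finite_etale_integralClosure (A := A) (R := R) Φ
  let A' := integralClosure A E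
  let Y : FEt.Cat (Spec (CommRingCat.of A)) := MorphismProperty.Over.mk ⊤
    (Spec.map (CommRingCat.ofHom (algebraMap A A')))
    ⟨(IsFinite.SpecMap_iff _).2 (RingHom.finite_algebraMap.2 hfin),
      (HasRingHomProperty.Spec_iff (P := @Etale)).2 (RingHom.etale_algebraMap.2 het)⟩
  let jA := Spec.map (CommRingCat.ofHom (algebraMap A K))
  let θ : K ⊗[A] A' ≃ₐ[K] E := AlgEquiv.ofBijective _ (bijective_lift_integralClosure (A := A) (E := E))
  let e : ((FEt.restrict jA).obj Y).left ≅ V.left :=
    pullbackSymmetry _ jA ≪≫ pullbackSpecIso A K A' ≪≫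
      Scheme.Spec.mapIso θ.toRingEquiv.toCommRingCatIso.symm.op ≪≫ V.left.isoSpec.symm
  refine ⟨Y, ⟨MorphismProperty.Over.isoMk e ?_⟩⟩
  show e.hom ≫ v = pullback.snd _ jA
  simp only [e, Iso.trans_hom, Iso.symm_hom, Category.assoc]
  rw [← hφ]
  show _ ≫ _ ≫ Spec.map _ ≫ Spec.map φ = _
  rw [← Spec.map_comp]
  have : φ ≫ θ.toRingEquiv.toCommRingCatIso.symm.op.hom.unop =
      CommRingCat.ofHom (algebraMap K (K ⊗[A] A')) := by
    ext x
    exact θ.symm.commutes x
  rw [this]
  refine (congrArg ((pullbackSymmetry _ jA).hom ≫ ·) (pullbackSpecIso_hom_fst A K A')).trans ?_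
  exact pullbackSymmetry_hom_comp_fst _ _

end Groth.Agent.StrictSplitLib
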